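import Mathlib
import Cfsg.Agent.Lib.Cov2.Sp6A

/-!
`Sp₆(3^a)` is covered by the stabilisers of hyperbolic planes and of cubic field structures.
-/

set_option autoImplicit false
set_option linter.unusedSectionVars false
set_option linter.unusedSimpArgs false

namespace H82.Cov2

open Polynomial Module

theorem jac {F A : Type*} [Field F] [CharP F 3] [Ring A] [Algebra F A] {θ u v : A} {k : F}
    (hk : k * k = 1) (h1 : θ * u = u * θ + k • v) (h2 : θ * v = v * θ + k • u)
    (h3 : v * u = u * v) (c : F) :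
    (θ + c • u) * ((θ + c • u) * (θ + c • u)) = θ * (θ * θ) + c • u + c ^ 3 • (u * (u * u)) := by
  have t3 : (3 : F) = 0 := CharP.cast_eq_zero F 3
  have e1 : ∀ w, θ * (u * w) = u * (θ * w) + k • (v * w) := fun w => by
    rw [← mul_assoc, h1, add_mul, smul_mul_assoc, mul_assoc]
  have e2 : ∀ w, θ * (v * w) = v * (θ * w) + k • (u * w) := fun w => by
    rw [← mul_assoc, h2, add_mul, smul_mul_assoc, mul_assoc]
  simp only [mul_add, add_mul, smul_mul_assoc, mul_smul_comm, smul_add, e1, e2, h1, h2, h3]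
  linear_combination (norm := module) hk • (c • u) + t3 • (c • (u * (θ * θ)) + (c * k) • (v * θ) +
    (c * c) • (u * (u * θ)) + (c * c * k) • (u * v))

variable {F V G : Type*} [Field F] [AddCommGroup V] [Module F V] [Group G]
variable {B : LinearMap.BilinForm F V} {ρ : G →* Module.End F V} {Z : Subgroup G}
variable [FiniteDimensional F V] [Finite G] [CharP F 3] [Finite F]

theorem SpData.adj (h : SpData B ρ Z) (g : G) (x y : V) : B (ρ g x) y = B x (ρ g⁻¹ y) := by
  rw [← h.iso g x, rho_inv']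

theorem SpData.sa_add (h : SpData B ρ Z) (g : G) : SA B (ρ g + ρ g⁻¹) := fun x y => by
  simp only [LinearMap.add_apply, map_add, h.adj, inv_inv]; ring

theorem mem_cubics_aux (h : SpData B ρ Z) (a : F) {g k : G} (hgk : k * g = g * k) {θ : End F V}
    (hs : SA B θ) (h3 : θ * (θ * θ) = θ) (hc : θ * ρ g = ρ g * θ + ρ g) {e : F} (he : e * e = 1)
    (hk : θ * ρ k = ρ k * θ + e • ρ k) {t : F} (ht : t ≠ 0)
    (hz : (ρ k + ρ k⁻¹) * ((ρ k + ρ k⁻¹) * (ρ k + ρ k⁻¹)) = t • 1) :
    ∃ H ∈ cubics B ρ a, g ∈ H := by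
  have hk' : θ * ρ k⁻¹ = ρ k⁻¹ * θ - e • ρ k⁻¹ := by
    ext v
    have := congrArg (ρ k⁻¹) (LinearMap.congr_fun hk (ρ k⁻¹ v))
    simp only [End.mul_apply, LinearMap.add_apply, LinearMap.smul_apply, LinearMap.sub_apply,
      rho_inv, rho_inv', map_add, map_smul] at this ⊢
    rw [this]; abel
  obtain ⟨c, hc3⟩ : ∃ c : F, c ^ 3 = a / t := (frobeniusEquiv F 3).surjective (a / t)
  have i1 : ρ k * ρ k⁻¹ = 1 := by rw [← map_mul, mul_inv_cancel, map_one]
  have i2 : ρ k⁻¹ * ρ k = 1 := by rw [← map_mul, inv_mul_cancel, map_one]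
  have hj := jac (θ := θ) (u := ρ k + ρ k⁻¹) (v := ρ k - ρ k⁻¹) he
    (by rw [mul_add, add_mul, hk, hk', smul_sub]; abel)
    (by rw [mul_sub, sub_mul, hk, hk', smul_add]; abel)
    (by simp only [mul_add, add_mul, mul_sub, sub_mul, i1, i2]; abel) c
  rw [h3, hz, hc3, smul_smul, div_mul_cancel₀ _ ht] at hj
  refine ⟨_, ⟨θ + c • (ρ k + ρ k⁻¹), fun x y => ?_, fun v => LinearMap.congr_fun hj v, rfl⟩, 1, ?_⟩
  · have := h.sa_add k x y
    simp only [LinearMap.add_apply, LinearMap.smul_apply, map_add, map_smul, hs x y,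
      smul_eq_mul] at this ⊢
    rw [this]
  · have h4 : k⁻¹ * g = g * k⁻¹ := by
      rw [inv_mul_eq_iff_eq_mul, ← mul_assoc, hgk, mul_inv_cancel_right]
    have h5 : (ρ k + ρ k⁻¹) * ρ g = ρ g * (ρ k + ρ k⁻¹) := by
      rw [mul_add, add_mul, ← map_mul, ← map_mul, ← map_mul, ← map_mul, hgk, h4]
    rw [add_mul, mul_add, smul_mul_assoc, mul_smul_comm, hc, h5, one_smul]; abel

theorem mem_cubics_of_grading (h : SpData B ρ Z) (a : F) {g : G} {θ : End F V}
    (hs : SA B θ) (h3 : θ * (θ * θ) = θ) (hc : θ * ρ g = ρ g * θ + ρ g) {t : F}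
    (hz : (ρ g + ρ g⁻¹) * ((ρ g + ρ g⁻¹) * (ρ g + ρ g⁻¹)) = t • 1) :
    ∃ H ∈ cubics B ρ a, g ∈ H := by
  have t3 : (3 : F) = 0 := CharP.cast_eq_zero F 3
  by_cases ht : t = 0
  swap
  · exact mem_cubics_aux h a rfl hs h3 hc (e := 1) (one_mul 1) (by rw [hc, one_smul]) ht hz
  refine mem_cubics_aux h a (k := g * g) (mul_assoc _ _ _) hs h3 hc (e := 2)
    (by linear_combination t3) ?_ one_ne_zero ?_
  · rw [map_mul, ← mul_assoc, hc, add_mul, mul_assoc, hc, mul_add, mul_assoc, two_smul]; abel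
  · have i1 : ρ g * ρ g⁻¹ = 1 := by rw [← map_mul, mul_inv_cancel, map_one]
    have i2 : ρ g⁻¹ * ρ g = 1 := by rw [← map_mul, inv_mul_cancel, map_one]
    have h4 : ρ (g * g) + ρ (g * g)⁻¹ = (ρ g + ρ g⁻¹) * (ρ g + ρ g⁻¹) - (2 : F) • 1 := by
      rw [_root_.mul_inv_rev, map_mul, map_mul]
      simp only [mul_add, add_mul, i1, i2, two_smul]; abel
    rw [h4]
    rw [ht, zero_smul] at hz
    generalize ρ g + ρ g⁻¹ = z at hz
    simp only [mul_sub, sub_mul, mul_smul_comm, smul_mul_assoc, mul_one, one_mul, mul_assoc, hz,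
      mul_zero, smul_sub]
    linear_combination (norm := module) t3 • ((4 : F) • (z * z) - (3 : F) • (1 : End F V))

/-- three orthogonal planes permuted cyclically -/
structure Tri (B : LinearMap.BilinForm F V) (T : End F V) (x y : V) : Prop where
  x1 : B x (T x) = 0
  x2 : B x (T (T x)) = 0
  y1 : B y (T y) = 0
  y2 : B y (T (T y)) = 0
  a1 : B x (T y) = 0
  a2 : B x (T (T y)) = 0
  b1 : B y (T x) = 0
  b2 : B y (T (T x)) = 0
  ne : B x y ≠ 0
  x3 : ∃ a b : F, T (T (T x)) = a • x + b • y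
  y3 : ∃ a b : F, T (T (T y)) = a • x + b • y

theorem Tri.neg {T : End F V} {x y : V} (h : Tri B (-T) x y) : Tri B T x y where
  x1 := by simpa using h.x1
  x2 := by simpa using h.x2
  y1 := by simpa using h.y1
  y2 := by simpa using h.y2
  a1 := by simpa using h.a1
  a2 := by simpa using h.a2
  b1 := by simpa using h.b1
  b2 := by simpa using h.b2
  ne := h.ne
  x3 := by
    obtain ⟨a, b, hab⟩ := h.x3
    simp only [LinearMap.neg_apply, map_neg, neg_neg] at hab
    exact ⟨-a, -b, by linear_combination (norm := module) -hab⟩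
  y3 := by
    obtain ⟨a, b, hab⟩ := h.y3
    simp only [LinearMap.neg_apply, map_neg, neg_neg] at hab
    exact ⟨-a, -b, by linear_combination (norm := module) -hab⟩

theorem Tri.grading (h : SpData B ρ Z) (h6 : finrank F V = 6) {T : End F V}
    (iso : ∀ x y, B (T x) (T y) = B x y) {x y : V} (ht : Tri B T x y) :
    ∃ θ : End F V, SA B θ ∧ θ * (θ * θ) = θ ∧ θ * T = T * θ + T := by
  have t3 : (3 : F) = 0 := CharP.cast_eq_zero F 3
  have x1 := h.refl _ _ ht.x1
  have x2 := h.refl _ _ ht.x2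
  have y1 := h.refl _ _ ht.y1
  have y2 := h.refl _ _ ht.y2
  have a1 := h.refl _ _ ht.a1
  have a2 := h.refl _ _ ht.a2
  have b1 := h.refl _ _ ht.b1
  have b2 := h.refl _ _ ht.b2
  have hG : ∀ i j, B (![x, T x, T (T x), y, T y, T (T y)] i) (![x, T x, T (T x), y, T y, T (T y)] j)
      = B x y * !![0, 0, 0, 1, 0, 0; 0, 0, 0, 0, 1, 0; 0, 0, 0, 0, 0, 1;
          -1, 0, 0, 0, 0, 0; 0, -1, 0, 0, 0, 0; 0, 0, -1, 0, 0, 0] i j := by
    intro i j
    fin_cases i <;> fin_cases j <;>
      simp [iso, h.alt, h.swap y x, x1, x2, y1, y2, a1, a2, b1, b2, ht.x1, ht.x2, ht.y1, ht.y2,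
        ht.a1, ht.a2, ht.b1, ht.b2]
  have hi : LinearIndependent F ![x, T x, T (T x), y, T y, T (T y)] := by
    refine indep_of_gram B _ fun c hc => ?_
    simp only [hG] at hc
    have h0 := hc 0
    have h1 := hc 1
    have h2 := hc 2
    have h3 := hc 3
    have h4 := hc 4
    have h5 := hc 5
    simp [Fin.sum_univ_six, ht.ne] at h0 h1 h2 h3 h4 h5
    intro i; fin_cases i <;> simp [h0, h1, h2, h3, h4, h5]
  let b := basisOfLinearIndependentOfCardEqFinrank hi (by simp [h6])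
  have hb : ∀ i, b i = ![x, T x, T (T x), y, T y, T (T y)] i := fun i => by simp [b]
  let wt : Fin 6 → F := ![0, 1, 2, 0, 1, 2]
  let θ : End F V := b.constr F fun i => wt i • b i
  have hθ : ∀ i, θ (b i) = wt i • b i := fun i => by simp [θ]
  have t0 := hθ 0
  have t1 := hθ 1
  have t2 := hθ 2
  have t3' := hθ 3
  have t4 := hθ 4
  have t5 := hθ 5
  simp [hb, wt] at t0 t1 t2 t3' t4 t5
  refine ⟨θ, ?_, ?_, ?_⟩
  · have : B.compLeft θ = B.compRight θ := by
      refine LinearMap.BilinForm.ext_basis b fun i j => ?_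
      rw [LinearMap.BilinForm.compLeft_apply, LinearMap.BilinForm.compRight_apply, hθ, hθ,
        map_smul, map_smul, LinearMap.smul_apply, hb, hb, hG]
      fin_cases i <;> fin_cases j <;> simp [wt]
    intro u v
    exact LinearMap.congr_fun₂ this u v
  · refine b.ext fun i => ?_
    simp only [End.mul_apply, hθ, map_smul, smul_smul]
    congr 1
    fin_cases i <;> simp [wt] <;> linear_combination 2 * t3
  · obtain ⟨a1, a2, ha⟩ := ht.x3
    obtain ⟨a3, a4, ha'⟩ := ht.y3
    refine b.ext fun i => ?_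
    rw [hb]
    fin_cases i <;> simp [t0, t1, t2, t3', t4, t5, ha, ha', two_smul]
    · linear_combination (norm := module) -t3 • (a1 • x + a2 • y)
    · linear_combination (norm := module) -t3 • (a3 • x + a4 • y)

theorem tri_of_cube (h : SpData B ρ Z) {T : End F V} (iso : ∀ x y, B (T x) (T y) = B x y)
    (h3 : ∀ v, T (T (T v)) = v) {x y : V} (hxy : B x (y + T y + T (T y)) ≠ 0) :
    ∃ x y, Tri B T x y := by
  have t3 : (3 : F) = 0 := CharP.cast_eq_zero F 3
  have adj : ∀ u v, B (T u) v = B u (T (T v)) := fun u v => by rw [← iso u, h3]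
  have two : ∀ u, B u (T (T u)) = -B u (T u) := fun u => by rw [← adj, h.swap]
  have sw : ∀ u v, B u (v + T v + T (T v)) = -B v (u + T u + T (T u)) := fun u v => by
    simp only [map_add]
    rw [h.swap u v, h.swap u (T v), h.swap u (T (T v)), adj, adj, adj, h3]; ring
  have step : ∀ x y, B x (y + T y + T (T y)) ≠ 0 → ∃ x', B x' (T x') = 0 ∧
      x' + T x' + T (T x') = x + T x + T (T x) := by
    intro x y hxy
    refine ⟨x + (B x (T x) / B x (y + T y + T (T y))) • (T y - y), ?_, ?_⟩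
    · generalize hc : B x (T x) / B x (y + T y + T (T y)) = c
      have h1 : B x (T x) = c * B x (y + T y + T (T y)) := by rw [← hc, div_mul_cancel₀ _ hxy]
      have h2 : B y (T x) = -B x (T (T y)) := by rw [h.swap, adj]
      simp only [map_add, map_smul, map_sub, LinearMap.add_apply, LinearMap.smul_apply,
        LinearMap.sub_apply, smul_eq_mul, iso, h.alt, two, h1, h2, h.swap y x]
      linear_combination (c * B x (T (T y)) + c ^ 2 * B y (T y)) * t3
    · simp only [map_add, map_smul, map_sub, h3]; module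
  obtain ⟨x', hx1, hx2⟩ := step x y hxy
  have h1 : B y (x' + T x' + T (T x')) ≠ 0 := by
    rw [hx2, sw, neg_ne_zero]; exact hxy
  obtain ⟨y', hy1, hy2⟩ := step y x' h1
  have h2 : B x' (y' + T y' + T (T y')) ≠ 0 := by
    rw [hy2, sw, neg_ne_zero]; exact h1
  clear hx2 hy2 h1 hxy step
  simp only [map_add] at h2
  set l0 := B x' y' with hl0
  set l1 := B x' (T y') with hl1
  set l2 := B x' (T (T y')) with hl2
  have k1 : B (T x') x' = 0 := h.refl _ _ hx1
  have k2 : B x' (T (T x')) = 0 := by rw [two, hx1, neg_zero]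
  have k3 : B (T (T x')) x' = 0 := h.refl _ _ k2
  have m : ∀ u v, B u v = 0 → B u (T v) = 0 → B u (T (T v)) = 0 → True := fun _ _ _ _ _ => trivial
  refine ⟨(l1 * l2 - l0 ^ 2) • x' + (l0 * l1 - l2 ^ 2) • T x' + (l0 * l2 - l1 ^ 2) • T (T x'), y',
    ?_, ?_, hy1, by rw [two, hy1, neg_zero], ?_, ?_, ?_, ?_, ?_, ⟨1, 0, by simp [h3]⟩,
    ⟨0, 1, by simp [h3]⟩⟩
  · simp [h3, iso, h.alt, hx1, k1, k2, k3]
  · simp [h3, iso, h.alt, hx1, k1, k2, k3]
  · simp only [map_add, map_smul, LinearMap.add_apply, LinearMap.smul_apply, smul_eq_mul, adj, h3,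
      ← hl0, ← hl1, ← hl2]
    ring
  · simp only [map_add, map_smul, LinearMap.add_apply, LinearMap.smul_apply, smul_eq_mul, adj, h3,
      ← hl0, ← hl1, ← hl2]
    ring
  · apply h.refl
    simp only [map_add, map_smul, LinearMap.add_apply, LinearMap.smul_apply, smul_eq_mul, adj, h3,
      ← hl0, ← hl1, ← hl2]
    ring
  · apply h.refl
    simp only [map_add, map_smul, LinearMap.add_apply, LinearMap.smul_apply, smul_eq_mul, adj, h3,
      ← hl0, ← hl1, ← hl2]
    ring
  · simp only [map_add, map_smul, LinearMap.add_apply, LinearMap.smul_apply, smul_eq_mul, adj, h3,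
      ← hl0, ← hl1, ← hl2]
    intro h4
    apply pow_ne_zero 3 h2
    linear_combination -h4 + (3 * l0 * l1 * l2 + l0 ^ 2 * l1 + l0 ^ 2 * l2 + l0 * l1 ^ 2 +
      l0 * l2 ^ 2 + l1 ^ 2 * l2 + l1 * l2 ^ 2) * t3

end H82.Cov2
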